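import Groth.Agent.VerlindeLib.Orth

/-! Schur polynomials at roots of unity. -/

namespace Groth.Agent.VerlindeLib
open Finset Matrix
open scoped BigOperators

variable {r n : ℕ}

/-- alternant of exponentials -/
noncomputable def alt (n : ℕ) (e v : Fin r → ℂ) : ℂ := (Matrix.of fun i j => w n (e i * v j)).det

/-- the staircase exponents -/
def stair (r : ℕ) : Fin r → ℂ := fun i => ((r - 1 - (i : ℕ) : ℕ) : ℂ)

lemma alt_comm (e v : Fin r → ℂ) : alt n e v = alt n v e := by
  rw [alt, alt, ← det_transpose]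
  congr 1; ext i j; simp [mul_comm]

lemma alt_rev (e v : Fin r → ℂ) : alt n (fun i => e (Fin.rev i)) v = revSign r * alt n e v := by
  rw [alt, alt, revSign, ← det_permute]
  rfl

lemma alt_shift (c : ℂ) (e v : Fin r → ℂ) : alt n (fun i => c + e i) v = w n (c * ∑ j, v j) * alt n e v := by
  rw [alt, alt, Finset.mul_sum, ← prod_w, ← det_mul_row]
  congr 1; ext i j
  simp [← w_add, add_mul]

lemma alt_congr {e e' v v' : Fin r → ℂ} (h : ∀ i j, w n (e i * v j) = w n (e' i * v' j)) :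
    alt n e v = alt n e' v' := by rw [alt, alt]; congr 1; ext i j; simp [h]

lemma E_submatrix (α : Fin r → ℂ) (m : ℕ) (v : Fin r → Fin m) :
    ((E n α m).submatrix id v).det = alt n α (fun j => ((v j : ℕ) : ℂ)) := rfl

lemma pow_eq_alt (v : Fin r → ℕ) (e : Fin r → ℕ) (z : Fin r → ℂ)
    (hz : ∀ j, z j = w n (v j)) :
    (Matrix.of fun i j : Fin r => z j ^ e i).det = alt n (fun i => ((e i : ℕ) : ℂ)) (fun j => (v j : ℂ)) := by
  rw [alt]; congr 1; ext i j
  simp [hz, w_pow, mul_comm]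

lemma hz_iff (r k : ℕ) (x : ℕ) :
    Complex.exp (2 * Real.pi * Complex.I * (x : ℂ) / ((r : ℂ) + k)) = w (r + k) (x : ℂ) := by
  simp [w]

lemma stair_rev (i : Fin r) : stair r (Fin.rev i) = (i : ℕ) := by
  simp only [stair, Fin.val_rev]
  rw [show r - 1 - (r - ((i : ℕ) + 1)) = (i : ℕ) by omega]

lemma neg_stair (i : Fin r) : -stair r i = -((r : ℂ) - 1) + stair r (Fin.rev i) := by
  have := i.2
  rw [stair_rev]
  simp only [stair]
  rw [Nat.cast_sub (show (i : ℕ) ≤ r - 1 by omega), Nat.cast_sub (show 1 ≤ r by omega)]; push_cast; ring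

lemma alt_neg_stair (v : Fin r → ℂ) :
    alt n (fun i => -stair r i) v = w n (-((r : ℂ) - 1) * ∑ j, v j) * (revSign r * alt n (stair r) v) := by
  rw [← alt_rev, ← alt_shift]
  simp only [neg_stair]

lemma alt_stair_eq_vdm (v : Fin r → ℂ) :
    revSign r * alt n (stair r) v = (vandermonde fun j => w n (v j)).det := by
  rw [← alt_rev, alt, ← det_transpose]
  congr 1; ext i j
  simp [stair_rev, vandermonde, w_pow, mul_comm]

lemma alt_neg_stair_eq_vdm (v : Fin r → ℂ) :
    revSign r * alt n (fun i => -stair r i) v = (vandermonde fun j => w n (-v j)).det := by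
  rw [← alt_rev (fun i => -stair r i), alt, ← det_transpose]
  congr 1; ext i j
  simp [stair_rev, vandermonde, w_pow, mul_comm]

lemma pair_term (x y : ℝ) :
    (w n (y : ℂ) - w n (x : ℂ)) * (w n (-(y : ℂ)) - w n (-(x : ℂ))) =
      ((((2 : ℝ) * Real.sin (Real.pi * (x - y) / n)) ^ 2 : ℝ) : ℂ) := by
  have h1 : (w n (y : ℂ) - w n (x : ℂ)) * (w n (-(y : ℂ)) - w n (-(x : ℂ))) =
      2 - (w n ((x : ℂ) - y) + w n (-((x : ℂ) - y))) := by
    simp only [sub_mul, mul_sub, ← w_add]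
    rw [show (y : ℂ) + -y = 0 by ring, show (x : ℂ) + -x = 0 by ring, w_zero,
      show (y : ℂ) + -x = -((x : ℂ) - y) by ring, show (x : ℂ) + -y = (x : ℂ) - y by ring]
    ring
  have h2 : w n ((x : ℂ) - y) + w n (-((x : ℂ) - y)) = 2 * Complex.cos (2 * ((Real.pi * (x - y) / n : ℝ) : ℂ)) := by
    rw [Complex.two_cos, w, w]; push_cast; ring_nf
  rw [h1, h2, Complex.cos_two_mul]
  push_cast
  have h3 := Complex.sin_sq_add_cos_sq ((Real.pi * (x - y) / n : ℝ) : ℂ)
  push_cast at h3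
  linear_combination -4 * h3

/-- the product of squared sines -/
noncomputable def sinProd (n : ℕ) (v : Fin r → ℕ) : ℝ :=
  ∏ p ∈ (Finset.univ : Finset (Fin r × Fin r)).filter (fun p => p.1 < p.2),
    ((2 : ℝ) * Real.sin (Real.pi * ((v p.1 : ℝ) - (v p.2 : ℝ)) / n)) ^ 2

theorem sinProd_eq (v : Fin r → ℕ) :
    (sinProd n v : ℂ) = alt n (stair r) (fun j => (v j : ℂ)) * alt n (fun i => -stair r i) (fun j => (v j : ℂ)) := by
  have h := revSign_sq r
  calc (sinProd n v : ℂ) = (vandermonde fun j => w n (v j)).det * (vandermonde fun j => w n (-(v j : ℂ))).det := by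
        rw [det_vandermonde, det_vandermonde, ← Finset.prod_mul_distrib, sinProd, Complex.ofReal_prod,
          Finset.prod_filter, Fintype.prod_prod_type]
        refine Finset.prod_congr rfl fun i _ => ?_
        rw [← Finset.prod_filter, ← Finset.prod_mul_distrib]
        refine Finset.prod_congr (by ext; simp) fun j _ => ?_
        have := pair_term (n := n) (v i) (v j)
        push_cast at this ⊢
        rw [this]
    _ = _ := by
        rw [← alt_stair_eq_vdm, ← alt_neg_stair_eq_vdm]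
        linear_combination (alt n (stair r) (fun j => (v j : ℂ)) * alt n (fun i => -stair r i) (fun j => (v j : ℂ))) * h

theorem stair_sq (v : Fin r → ℕ) :
    alt n (stair r) (fun j => (v j : ℂ)) * alt n (stair r) (fun j => (v j : ℂ)) =
      (sinProd n v : ℂ) * (revSign r * w n (((r : ℂ) - 1) * ∑ j, (v j : ℂ))) := by
  rw [sinProd_eq, alt_neg_stair]
  have h1 : w n (-((r : ℂ) - 1) * ∑ j, (v j : ℂ)) * w n (((r : ℂ) - 1) * ∑ j, (v j : ℂ)) = 1 := by
    rw [← w_add, ← add_mul, neg_add_cancel, zero_mul, w_zero]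
  have h2 := revSign_sq r
  generalize alt n (stair r) (fun j => (v j : ℂ)) = A
  generalize w n (-((r : ℂ) - 1) * ∑ j, (v j : ℂ)) = p at h1 ⊢
  generalize w n (((r : ℂ) - 1) * ∑ j, (v j : ℂ)) = q at h1 ⊢
  linear_combination (-(A * A) * revSign r * revSign r) * h1 - A * A * h2

theorem stair_ne_zero (hn : n ≠ 0) (v : Fin r → ℕ) (hv : Function.Injective v) (hlt : ∀ i, v i < n) :
    alt n (stair r) (fun j => (v j : ℂ)) ≠ 0 := by
  intro h
  have := alt_stair_eq_vdm (n := n) (fun j => (v j : ℂ))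
  rw [h, mul_zero] at this
  refine det_vandermonde_ne_zero_iff.2 ?_ this.symm
  intro i j hij
  apply hv
  have := w_int_inj hn (a := (v i : ℤ)) (b := (v j : ℤ))
    (abs_lt.2 ⟨by have := hlt i; have := hlt j; omega, by have := hlt i; have := hlt j; omega⟩)
    (by push_cast; exact hij)
  exact_mod_cast this

theorem sinProd_ne_zero (hn : n ≠ 0) (v : Fin r → ℕ) (hv : Function.Injective v) (hlt : ∀ i, v i < n) :
    (sinProd n v : ℂ) ≠ 0 := fun h => by
  have := stair_sq (n := n) v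
  rw [h, zero_mul] at this
  exact stair_ne_zero hn v hv hlt (mul_self_eq_zero.1 this)

lemma strictAnti_gap {α : Fin r → ℕ} (h : StrictAnti α) {i j : Fin r} (hij : i ≤ j) :
    α j + ((j : ℕ) - i) ≤ α i := by
  suffices ∀ d (i j : Fin r), (i : ℕ) + d = j → α j + d ≤ α i from this _ i j (by omega)
  intro d
  induction d with
  | zero => intro i j hd; rw [show i = j from Fin.ext (by omega)]; simp
  | succ d ih =>
    intro i j hd
    have h1 := ih i ⟨(j : ℕ) - 1, by omega⟩ (by simp only; omega)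
    have h2 := h (show (⟨(j : ℕ) - 1, by omega⟩ : Fin r) < j from Fin.lt_def.2 (by simp only; omega))
    omega

open Classical in
lemma sum_antitone_eq (m m' : ℕ) (hm : m + (r - 1) = m') (p : (Fin r → ℕ) → Prop) (G : (Fin r → ℕ) → ℂ) :
    ∑ μ ∈ (Finset.univ : Finset (Fin r → Fin m)).filter
        (fun μ : Fin r → Fin m => Antitone μ ∧ p (fun i => (μ i : ℕ) + (r - 1 - (i : ℕ)))),
      G (fun i => (μ i : ℕ) + (r - 1 - (i : ℕ))) =
    ∑ e ∈ (tuples r m').filter (fun e => p (fun i => (e i : ℕ))), G (fun i => (e i : ℕ)) := by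
  have key : ∀ e : Fin r → Fin m', StrictAnti e → ∀ i : Fin r,
      r - 1 - (i : ℕ) ≤ (e i : ℕ) ∧ (e i : ℕ) - (r - 1 - (i : ℕ)) < m := by
    intro e he i
    have hi := i.2
    have hsa : StrictAnti fun i => (e i : ℕ) := fun a b h => he h
    have h1 := strictAnti_gap hsa (show i ≤ (⟨r - 1, by omega⟩ : Fin r) from Fin.le_def.2 (by simp only; omega))
    have h2 := strictAnti_gap hsa (show (⟨0, by omega⟩ : Fin r) ≤ i from Fin.le_def.2 (by simp only; omega))
    have h3 := (e ⟨0, by omega⟩).2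
    simp only at h1 h2
    omega
  refine Finset.sum_bij'
    (fun μ _ i => ⟨(μ i : ℕ) + (r - 1 - (i : ℕ)), by have := (μ i).2; omega⟩)
    (fun e he i => ⟨(e i : ℕ) - (r - 1 - (i : ℕ)), (key e (mem_tuples.1 (Finset.mem_filter.1 he).1) i).2⟩) ?_ ?_ ?_ ?_ ?_
  · intro μ hμ
    simp only [mem_filter, mem_univ, true_and, mem_tuples] at hμ ⊢
    refine ⟨fun a b hab => Fin.lt_def.2 ?_, hμ.2⟩
    have := Fin.le_def.1 (hμ.1 hab.le)
    have := Fin.lt_def.1 hab
    simp only
    omega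
  · intro e he
    simp only [mem_filter, mem_univ, true_and, mem_tuples] at he ⊢
    have he' : (fun i => (e i : ℕ) - (r - 1 - (i : ℕ)) + (r - 1 - (i : ℕ))) = fun i => (e i : ℕ) :=
      funext fun i => Nat.sub_add_cancel (key e he.1 i).1
    refine ⟨fun a b hab => Fin.le_def.2 ?_, by rw [he']; exact he.2⟩
    have h1 := strictAnti_gap (fun a b h => he.1 h : StrictAnti fun i => (e i : ℕ)) hab
    simp only at h1 ⊢
    have := Fin.le_def.1 hab
    omega
  · intro μ _; funext i; exact Fin.ext (by simp)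
  · intro e he
    simp only [mem_filter, mem_tuples] at he
    funext i; exact Fin.ext (by simpa using Nat.sub_add_cancel (key e he.1 i).1)
  · intro μ _; rfl

lemma det_smul_one_sub_rankOne (hr : 1 ≤ r) (N : ℂ) (hN : N ≠ 0) (u u' : Fin r → ℂ) :
    (N • (1 : Matrix (Fin r) (Fin r) ℂ) - Matrix.of fun i l => u i * u' l).det =
      N ^ (r - 1) * (N - ∑ i, u' i * u i) := by
  have e : N • (1 : Matrix (Fin r) (Fin r) ℂ) - Matrix.of (fun i l => u i * u' l) =
      N • (1 + Matrix.replicateCol Unit (fun i => -(u i / N)) * Matrix.replicateRow Unit u') := by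
    ext i l
    simp [Matrix.mul_apply]
    field_simp
    ring
  rw [e, det_smul, det_one_add_replicateCol_mul_replicateRow, Fintype.card_fin,
    show N ^ r = N ^ (r - 1) * N by rw [← pow_succ, Nat.sub_add_cancel hr], mul_assoc]
  congr 1
  simp only [dotProduct, mul_add, mul_one, Finset.mul_sum, sub_eq_add_neg, ← Finset.sum_neg_distrib]
  congr 1
  exact Finset.sum_congr rfl fun i _ => by field_simp

lemma sum_w_int (hn : n ≠ 0) {a b : ℤ} (hab : |a - b| < n) :
    ∑ x : Fin n, w n (((a : ℂ) + -(b : ℂ)) * (x : ℕ)) = if a = b then (n : ℂ) else 0 := by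
  split_ifs with h
  · simp [h, w_zero]
  · have h1 : w n ((a : ℂ) + -(b : ℂ)) ≠ 1 := by
      intro h1
      refine h (w_int_inj hn hab ?_)
      rw [show (a : ℂ) = ((a : ℂ) + -(b : ℂ)) + b by ring, w_add, h1, one_mul]
    rw [geom_w hn h1, mul_comm, show (n : ℂ) * ((a : ℂ) + -(b : ℂ)) = 0 + (n : ℂ) * ((a - b : ℤ) : ℂ) by push_cast; ring,
      w_periodic hn, w_zero, sub_self, zero_div]

theorem sum_sinProd (hr : 1 ≤ r) (hn : n ≠ 0) (hrn : r ≤ n) :
    ∑ v ∈ tuples0 r n, (sinProd n (fun j => (v j : ℕ)) : ℂ) = (r : ℂ) * (n : ℂ) ^ (r - 1) := by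
  haveI : NeZero n := ⟨hn⟩
  simp only [sinProd_eq, ← E_submatrix]
  rw [cauchyBinet0 hr, killZero_mul _ _ (fun i => by simp [E, w_zero]) (fun i => by simp [E, w_zero])]
  have hM : E n (stair r) n * (E n (fun i => -stair r i) n)ᵀ = (n : ℂ) • (1 : Matrix (Fin r) (Fin r) ℂ) := by
    ext i l
    rw [E_mul]
    have := sum_w_int (n := n) hn (a := ((r - 1 - (i : ℕ) : ℕ) : ℤ)) (b := ((r - 1 - (l : ℕ) : ℕ) : ℤ))
      (abs_lt.2 ⟨by omega, by omega⟩)
    push_cast at this
    simp only [stair]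
    rw [this, Matrix.smul_apply, Matrix.one_apply]
    by_cases h : i = l
    · simp [h]
    · have : (i : ℕ) ≠ l := fun h' => h (Fin.ext h')
      rw [if_neg (by omega), if_neg h, smul_zero]
  rw [hM, show J r = Matrix.of fun i l : Fin r => (1 : ℂ) * 1 by simp [J],
    det_smul_one_sub_rankOne hr _ (Nat.cast_ne_zero.2 hn), det_smul, det_one, Fintype.card_fin]
  rw [show ∑ _ : Fin r, (1 : ℂ) * 1 = r by simp, show (n : ℂ) ^ r = (n : ℂ) ^ (r - 1) * n by rw [← pow_succ, Nat.sub_add_cancel hr]]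
  ring

theorem schur_dual_sum (r k : ℕ) (hr : 1 ≤ r) (hk : 1 ≤ k)
    (v : Fin r → ℕ) (hv : Function.Injective v) (hvlt : ∀ i, v i < r + k)
    (z : Fin r → ℂ) (hz : ∀ j, z j = w (r + k) (v j))
    (S : (Fin r → ℕ) → ℂ)
    (hS : ∀ μ : Fin r → ℕ, S μ =
      (Matrix.of fun i j : Fin r => z j ^ (μ i + (r - 1 - (i : ℕ)))).det /
        (Matrix.of fun i j : Fin r => z j ^ (r - 1 - (i : ℕ))).det) :
    (∑ μ ∈ (Finset.univ : Finset (Fin r → Fin k)).filter (fun μ : Fin r → Fin k => Antitone μ),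
        S (fun i => (μ i : ℕ)) * S (fun i => k - (μ (Fin.rev i) : ℕ))) =
      w (r + k) ((k : ℂ) * ∑ j, (v j : ℂ)) *
        ((k : ℂ) * ((r + k : ℕ) : ℂ) ^ (r - 1)) / (sinProd (r + k) v : ℂ) := by
  classical
  set n := r + k with hn'
  have hn : n ≠ 0 := by omega
  set vc : Fin r → ℂ := fun j => (v j : ℂ) with hvc
  set V : ℂ := ∑ j, (v j : ℂ)
  set Δ := alt n (stair r) vc with hΔ
  have hΔ0 : Δ ≠ 0 := stair_ne_zero hn v hv hvlt
  have hP := sinProd_ne_zero hn v hv hvlt
  have hterm : ∀ μ : Fin r → Fin k, S (fun i => (μ i : ℕ)) * S (fun i => k - (μ (Fin.rev i) : ℕ)) =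
      (w n (k * V) / (sinProd n v : ℂ)) *
        (fun e : Fin r → ℕ => alt n vc (fun i => (e i : ℂ)) * alt n (fun j => -vc j) (fun i => (e i : ℂ)))
          (fun i => (μ i : ℕ) + (r - 1 - (i : ℕ))) := by
    intro μ
    simp only [hS, pow_eq_alt (n := n) v _ z hz]
    set e : Fin r → ℕ := fun i => (μ i : ℕ) + (r - 1 - (i : ℕ)) with he
    have h1 : alt n (fun i => ((k - (μ (Fin.rev i) : ℕ) + (r - 1 - (i : ℕ)) : ℕ) : ℂ)) vc =
        revSign r * (w n (-1 * V) * alt n (fun j => -vc j) (fun i => (e i : ℂ))) := by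
      rw [alt_comm (fun j => -vc j), mul_left_comm, ← alt_rev]
      have h2 : alt n (fun i => ((k - (μ (Fin.rev i) : ℕ) + (r - 1 - (i : ℕ)) : ℕ) : ℂ)) vc =
          alt n (fun i => -1 + -((e (Fin.rev i) : ℕ) : ℂ)) vc := by
        refine alt_congr fun i j => ?_
        rw [← w_periodic hn ((-1 + -((e (Fin.rev i) : ℕ) : ℂ)) * vc j) (v j)]
        congr 1
        have := (μ (Fin.rev i)).2
        simp only [e, vc, Fin.val_rev, hn']
        rw [Nat.cast_add, Nat.cast_sub (by omega), Nat.cast_sub (by omega)]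
        push_cast [Nat.cast_sub (show r - ((i : ℕ) + 1) ≤ r - 1 by omega), Nat.cast_sub (show (i : ℕ) + 1 ≤ r by omega),
          Nat.cast_sub (show 1 ≤ r by omega)]
        ring
      rw [h2, alt_shift]
      congr 1
      rw [alt_rev (fun i => -((e i : ℕ) : ℂ)), alt_rev (fun i => (e i : ℂ))]
      congr 1
      exact alt_congr fun i j => by simp [vc]
    rw [h1, show (fun i : Fin r => ((r - 1 - (i : ℕ) : ℕ) : ℂ)) = stair r from rfl, ← hΔ, alt_comm (fun i => ((_ : ℕ) : ℂ))]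
    have hsq := stair_sq (n := n) v
    rw [← hvc] at hsq
    change Δ * Δ = _ at hsq
    have hw : w n (-1 * V) = w n (k * V) * w n (((r : ℂ) - 1) * V) := by
      rw [← w_add, ← w_periodic hn (-1 * V) (∑ j, (v j : ℤ))]
      congr 1; simp [V, hn']; ring
    change Δ * Δ = _ * (_ * w n (((r : ℂ) - 1) * V)) at hsq
    rw [div_mul_div_comm, hsq, hw]
    have hw0 : w n (((r : ℂ) - 1) * V) ≠ 0 := Complex.exp_ne_zero _
    have hs0 : revSign r ≠ 0 := fun h => by have := revSign_sq r; rw [h] at this; simp at this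
    generalize w n (((r : ℂ) - 1) * V) = W2 at hw0 ⊢
    field_simp
    simp only [e, vc]
    ring
  rw [Finset.sum_congr rfl fun μ _ => hterm μ, ← Finset.mul_sum]
  have h := sum_antitone_eq (r := r) k (n - 1) (by omega) (fun _ => True)
    (fun e => alt n vc (fun i => (e i : ℂ)) * alt n (fun j => -vc j) (fun i => (e i : ℂ)))
  simp only [and_true, Finset.filter_true] at h
  rw [h]
  simp only [← E_submatrix]
  rw [cauchyBinet]
  have hM : E n vc (n - 1) * (E n (fun j => -vc j) (n - 1))ᵀ =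
      (n : ℂ) • (1 : Matrix (Fin r) (Fin r) ℂ) - Matrix.of fun i l => w n (-vc i) * w n (vc l) := by
    ext i l
    rw [E_mul, Matrix.sub_apply, Matrix.smul_apply, Matrix.one_apply, Matrix.of_apply]
    have h1 := sum_w_int (n := n) hn (a := (v i : ℤ)) (b := (v l : ℤ))
      (abs_lt.2 ⟨by have := hvlt i; have := hvlt l; omega, by have := hvlt i; have := hvlt l; omega⟩)
    simp only [Int.cast_natCast, Nat.cast_inj] at h1
    rw [Fin.sum_univ_eq_sum_range (fun x => w n ((vc i + -vc l) * (x : ℕ)))] at *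
    rw [show ((if (v i) = v l then (n : ℂ) else 0)) = (if i = l then (n:ℂ) else 0) by simp [hv.eq_iff]] at h1
    obtain ⟨n', hn1⟩ : ∃ n', n = n' + 1 := ⟨n - 1, by omega⟩
    rw [show n - 1 = n' by omega]
    rw [Finset.range_eq_Ico] at h1 ⊢
    rw [← Finset.range_eq_Ico] at h1 ⊢
    have h2 : w n ((vc i + -vc l) * (n' : ℕ)) = w n (-vc i) * w n (vc l) := by
      rw [← w_add, ← w_periodic hn (-vc i + vc l) ((v i : ℤ) - v l)]
      congr 1
      rw [hn1]; simp [vc]; ring
    have h3 : (∑ x ∈ range n, w n ((vc i + -vc l) * (x : ℕ))) =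
        (∑ x ∈ range n', w n ((vc i + -vc l) * (x : ℕ))) + w n ((vc i + -vc l) * (n' : ℕ)) := by
      rw [show range n = range (n' + 1) by rw [hn1], Finset.sum_range_succ]
    rw [h3, h2] at h1
    simp only [smul_eq_mul, mul_ite, mul_one, mul_zero]
    linear_combination h1
  rw [hM, det_smul_one_sub_rankOne hr _ (Nat.cast_ne_zero.2 hn)]
  rw [show ∑ i, w n (vc i) * w n (-vc i) = r by simp [← w_add, w_zero]]
  simp only [hn']; push_cast; ring

theorem pair_vanish (r k : ℕ) (hr : 1 ≤ r) (lam lam' : Fin r → ℕ) (hlam : Antitone lam) (hlamk : ∀ i, lam i ≤ k)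
    (hlam' : Antitone lam') (hlam'k : ∀ i, lam' i ≤ k)
    (hne : ¬ ∃ a : ℤ, ∀ i, (lam i : ℤ) - ((k - lam' (Fin.rev i) : ℕ) : ℤ) = a)
    (z : (Fin r → ℕ) → Fin r → ℂ) (hz : ∀ v j, z v j = w (r + k) (v j))
    (S : (Fin r → ℕ) → (Fin r → ℕ) → ℂ)
    (hS : ∀ μ v, S μ v = (Matrix.of fun i j : Fin r => z v j ^ (μ i + (r - 1 - (i : ℕ)))).det /
        (Matrix.of fun i j : Fin r => z v j ^ (r - 1 - (i : ℕ))).det) :
    (∑ v ∈ tuples0 r (r + k),
      w (r + k) (-((((∑ i, lam i) + ∑ i, lam' i : ℕ) : ℂ) / r) * ((∑ j, (v j : ℕ) : ℕ) : ℂ)) *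
        S lam (fun j => (v j : ℕ)) * S lam' (fun j => (v j : ℕ)) * (sinProd (r + k) (fun j => (v j : ℕ)) : ℂ)) = 0 := by
  classical
  set n := r + k with hn'
  have hn : n ≠ 0 := by omega
  set a : Fin r → ℤ := fun i => (lam i : ℤ) + ((r - 1 - (i : ℕ) : ℕ) : ℤ)
  set b : Fin r → ℤ := fun i => (lam' i : ℤ) + ((r - 1 - (i : ℕ) : ℕ) : ℤ)
  set C : ℂ := (((∑ i, lam i) + ∑ i, lam' i : ℕ) : ℂ) / r + ((r : ℂ) - 1)
  have hr' : (r : ℂ) ≠ 0 := Nat.cast_ne_zero.2 (by omega)
  have hstair : 2 * ∑ i : Fin r, stair r i = (r : ℂ) * ((r : ℂ) - 1) := by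
    have h1 : ∑ i : Fin r, stair r i = ∑ i : Fin r, ((i : ℕ) : ℂ) := by
      rw [← Equiv.sum_comp Fin.revPerm (stair r)]
      exact Finset.sum_congr rfl fun i _ => stair_rev i
    have h2 : ∑ i : Fin r, (stair r i + ((i : ℕ) : ℂ)) = (r : ℂ) * ((r : ℂ) - 1) := by
      simp only [stair]
      rw [Finset.sum_congr rfl (g := fun _ => ((r : ℂ) - 1)) fun i _ => by
        rw [Nat.cast_sub (by omega), Nat.cast_sub (by omega)]; push_cast; ring]
      simp [mul_sub]
    rw [Finset.sum_add_distrib, ← h1] at h2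
    linear_combination h2
  have hsum : ((∑ i, a i + ∑ i, b i : ℤ) : ℂ) = r * C := by
    simp only [a, b, C, Finset.sum_add_distrib, stair] at hstair ⊢
    push_cast
    rw [mul_add, mul_div_cancel₀ _ hr']
    push_cast
    linear_combination hstair
  have hne' : ¬ ∀ i, ((a i + b (Fin.rev i) : ℤ) : ℂ) = C := by
    intro h
    apply hne
    have i0 : Fin r := ⟨0, by omega⟩
    refine ⟨(lam i0 : ℤ) - ((k - lam' (Fin.rev i0) : ℕ) : ℤ), fun i => ?_⟩
    have h1 : a i + b (Fin.rev i) = a i0 + b (Fin.rev i0) := by exact_mod_cast (h i).trans (h i0).symm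
    simp only [a, b, Fin.val_rev] at h1
    have := hlam'k (Fin.rev i); have := hlam'k (Fin.rev i0)
    omega
  have hmono : ∀ l : Fin r → ℕ, Antitone l → StrictAnti fun i : Fin r => (l i : ℤ) + ((r - 1 - (i : ℕ) : ℕ) : ℤ) := by
    intro l hl i j hij
    have := hl hij.le
    have := Fin.lt_def.1 hij
    simp only
    omega
  have key := orth hr hn a b C hsum (hmono lam hlam) (hmono lam' hlam')
    (fun i j => abs_lt.2 ⟨by have := hlamk i; have := hlamk j; simp only [a]; omega, by have := hlamk i; have := hlamk j; simp only [a]; omega⟩)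
    (fun i j => abs_lt.2 ⟨by have := hlam'k i; have := hlam'k j; simp only [b]; omega, by have := hlam'k i; have := hlam'k j; simp only [b]; omega⟩)
    hne'
  rw [Finset.sum_congr rfl (g := fun v => revSign r * (((E n (fun i => (a i : ℂ) - C) n).submatrix id v).det *
      ((E n (fun i => (b i : ℂ)) n).submatrix id v).det)) ?_, ← Finset.mul_sum, key, mul_zero]
  intro v hv
  simp only [tuples0, Finset.mem_filter, mem_tuples] at hv
  simp only [E_submatrix, hS, pow_eq_alt (n := n) _ _ _ (hz _)]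
  set vc : Fin r → ℂ := fun j => ((v j : ℕ) : ℂ) with hvc
  have hinj : Function.Injective fun j => (v j : ℕ) := Fin.val_injective.comp hv.1.injective
  have hΔ0 := stair_ne_zero (n := n) hn (fun j => (v j : ℕ)) hinj (fun i => (v i).2)
  have hsq := stair_sq (n := n) (fun j => (v j : ℕ))
  set V : ℂ := ∑ j, ((v j : ℕ) : ℂ)
  rw [show (fun i : Fin r => ((r - 1 - (i : ℕ) : ℕ) : ℂ)) = stair r from rfl]
  set Δ := alt n (stair r) vc
  rw [show (fun i => (a i : ℂ) - C) = fun i => -C + (a i : ℂ) by funext i; ring, alt_shift,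
    show (fun i => (a i : ℂ)) = fun i => ((lam i + (r - 1 - (i : ℕ)) : ℕ) : ℂ) by funext i; simp [a],
    show (fun i => (b i : ℂ)) = fun i => ((lam' i + (r - 1 - (i : ℕ)) : ℕ) : ℂ) by funext i; simp [b],
    show ((∑ j, (v j : ℕ) : ℕ) : ℂ) = V by simp [V]]
  have hw : w n (-((((∑ i, lam i) + ∑ i, lam' i : ℕ) : ℂ) / r) * V) = w n (-C * V) * w n (((r : ℂ) - 1) * V) := by
    rw [← w_add]; congr 1; simp only [C]; ring
  rw [hw]
  have h2 := revSign_sq r
  generalize alt n (fun i => ((lam i + (r - 1 - (i : ℕ)) : ℕ) : ℂ)) vc = A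
  generalize alt n (fun i => ((lam' i + (r - 1 - (i : ℕ)) : ℕ) : ℂ)) vc = B
  generalize w n (-C * V) = W1
  change Δ * Δ = _ * (_ * w n (((r : ℂ) - 1) * V)) at hsq
  generalize w n (((r : ℂ) - 1) * V) = W2 at hsq ⊢
  generalize ((sinProd n fun j => (v j : ℕ) : ℝ) : ℂ) = P at hsq ⊢
  field_simp
  linear_combination (-(W1 * A * B)) * (revSign r * hsq + W2 * P * h2)

theorem twisted_vanish (r k : ℕ) (hr : 1 ≤ r)
    (v v' : Fin r → ℕ) (hv : StrictAnti v) (hvlt : ∀ i, v i < r + k) (hv' : StrictAnti v')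
    (hv'lt : ∀ i, v' i < r + k) (hne : ¬ ∃ a : ℤ, ∀ i, (v i : ℤ) - (v' i : ℤ) = a)
    (z z' : Fin r → ℂ) (hz : ∀ j, z j = w (r + k) (v j)) (hz' : ∀ j, z' j = w (r + k) (v' j))
    (S S' : (Fin r → ℕ) → ℂ)
    (hS : ∀ μ : Fin r → ℕ, S μ =
      (Matrix.of fun i j : Fin r => z j ^ (μ i + (r - 1 - (i : ℕ)))).det /
        (Matrix.of fun i j : Fin r => z j ^ (r - 1 - (i : ℕ))).det)
    (hS' : ∀ μ : Fin r → ℕ, S' μ =
      (Matrix.of fun i j : Fin r => z' j ^ (μ i + (r - 1 - (i : ℕ)))).det /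
        (Matrix.of fun i j : Fin r => z' j ^ (r - 1 - (i : ℕ))).det) :
    (∑ μ ∈ (Finset.univ : Finset (Fin r → Fin (k + 1))).filter
        (fun μ : Fin r → Fin (k + 1) => Antitone μ ∧ ∀ i : Fin r, (i : ℕ) = r - 1 → (μ i : ℕ) = 0),
      w (r + k) (-(((∑ i, (μ i : ℕ) : ℕ) : ℂ) * ((∑ j, v j : ℕ) : ℂ)) / r) *
      w (r + k) (-(((∑ i, (k - (μ (Fin.rev i) : ℕ)) : ℕ) : ℂ) * ((∑ j, v' j : ℕ) : ℂ)) / r) *
      S (fun i => (μ i : ℕ)) * S' (fun i => k - (μ (Fin.rev i) : ℕ))) = 0 := by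
  classical
  set n := r + k with hn'
  have hn : n ≠ 0 := by omega
  set vc : Fin r → ℂ := fun j => (v j : ℂ) with hvc
  set vc' : Fin r → ℂ := fun j => (v' j : ℂ) with hvc'
  set V : ℂ := ∑ j, (v j : ℂ) with hV
  set V' : ℂ := ∑ j, (v' j : ℂ) with hV'
  set D : ℂ := ∑ i : Fin r, stair r i
  set C : ℂ := (V - V') / r
  set a : Fin r → ℤ := fun j => (v j : ℤ)
  set b : Fin r → ℤ := fun j => -(v' (Fin.rev j) : ℤ)
  set K : ℂ := w n (D * (V - V') / r - k * V') * w n (-1 * V') / (alt n (stair r) vc * alt n (stair r) vc')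
  have hr' : (r : ℂ) ≠ 0 := Nat.cast_ne_zero.2 (by omega)
  let G : (Fin r → ℕ) → ℂ := fun e =>
    alt n (fun j => (a j : ℂ) - C) (fun i => (e i : ℂ)) * alt n (fun j => (b j : ℂ)) (fun i => (e i : ℂ))
  have hterm : ∀ μ : Fin r → Fin (k + 1),
      w n (-(((∑ i, (μ i : ℕ) : ℕ) : ℂ) * ((∑ j, v j : ℕ) : ℂ)) / r) *
      w n (-(((∑ i, (k - (μ (Fin.rev i) : ℕ)) : ℕ) : ℂ) * ((∑ j, v' j : ℕ) : ℂ)) / r) *
      S (fun i => (μ i : ℕ)) * S' (fun i => k - (μ (Fin.rev i) : ℕ)) =
        K * G (fun i => (μ i : ℕ) + (r - 1 - (i : ℕ))) := by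
    intro μ
    simp only [hS, hS', pow_eq_alt (n := n) v _ z hz, pow_eq_alt (n := n) v' _ z' hz', G, K]
    set e : Fin r → ℕ := fun i => (μ i : ℕ) + (r - 1 - (i : ℕ)) with he
    have h1 : alt n (fun i => ((k - (μ (Fin.rev i) : ℕ) + (r - 1 - (i : ℕ)) : ℕ) : ℂ)) vc' =
        w n (-1 * V') * alt n (fun j => (b j : ℂ)) (fun i => (e i : ℂ)) := by
      have h2 : alt n (fun i => ((k - (μ (Fin.rev i) : ℕ) + (r - 1 - (i : ℕ)) : ℕ) : ℂ)) vc' =
          alt n (fun i => -1 + -((e (Fin.rev i) : ℕ) : ℂ)) vc' := by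
        refine alt_congr fun i j => ?_
        rw [← w_periodic hn ((-1 + -((e (Fin.rev i) : ℕ) : ℂ)) * vc' j) (v' j)]
        congr 1
        have := (μ (Fin.rev i)).2
        simp only [e, vc', Fin.val_rev, hn']
        rw [Nat.cast_add, Nat.cast_sub (by omega), Nat.cast_sub (by omega)]
        push_cast [Nat.cast_sub (show r - ((i : ℕ) + 1) ≤ r - 1 by omega), Nat.cast_sub (show (i : ℕ) + 1 ≤ r by omega),
          Nat.cast_sub (show 1 ≤ r by omega)]
        ring
      rw [h2, alt_shift, alt_rev (fun i => -((e i : ℕ) : ℂ))]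
      congr 1
      rw [show (fun j => (b j : ℂ)) = fun j => (fun j => -vc' j) (Fin.rev j) by funext j; simp [b, vc'],
        alt_rev (fun j => -vc' j), alt_comm]
      congr 1
      exact alt_congr fun i j => by simp
    rw [h1, show (fun i : Fin r => ((r - 1 - (i : ℕ) : ℕ) : ℂ)) = stair r from rfl, alt_comm _ vc]
    rw [show (fun j => (a j : ℂ) - C) = fun j => -C + vc j by funext j; simp [a, vc]; ring, alt_shift]
    have hw : w n (-(((∑ i, (μ i : ℕ) : ℕ) : ℂ) * ((∑ j, v j : ℕ) : ℂ)) / r) *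
        w n (-(((∑ i, (k - (μ (Fin.rev i) : ℕ)) : ℕ) : ℂ) * ((∑ j, v' j : ℕ) : ℂ)) / r) =
        w n (D * (V - V') / r - k * V') * w n (-C * ∑ i, (e i : ℂ)) := by
      rw [← w_add, ← w_add]
      congr 1
      have he1 : ∑ i, (e i : ℂ) = (∑ i, ((μ i : ℕ) : ℂ)) + D := by
        simp only [e, D, stair, Nat.cast_add, Finset.sum_add_distrib]
      have he2 : ((∑ i, (k - (μ (Fin.rev i) : ℕ)) : ℕ) : ℂ) = r * k - ∑ i, ((μ i : ℕ) : ℂ) := by
        push_cast [Nat.cast_sum]
        rw [Finset.sum_congr rfl fun i _ => Nat.cast_sub (show (μ (Fin.rev i) : ℕ) ≤ k by omega),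
          Finset.sum_sub_distrib]
        congr 1
        · simp
        · exact Equiv.sum_comp Fin.revPerm fun i => ((μ i : ℕ) : ℂ)
      rw [he1, he2]
      simp only [C, Nat.cast_sum, ← hV, ← hV']
      field_simp
      ring
    rw [hw]
    simp only [vc', ← hvc']
    ring
  rw [Finset.sum_congr rfl fun μ _ => hterm μ, ← Finset.mul_sum]
  have h := sum_antitone_eq (r := r) (k + 1) n (by omega) (fun e => ∀ i : Fin r, (i : ℕ) = r - 1 → e i = 0) G
  rw [Finset.filter_congr (q := fun μ : Fin r → Fin (k + 1) => Antitone μ ∧ ∀ i : Fin r, (i : ℕ) = r - 1 →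
      (μ i : ℕ) + (r - 1 - (i : ℕ)) = 0) (fun μ _ => and_congr_right fun _ =>
      forall_congr' fun i => imp_congr_right fun hi => by omega)]
  refine mul_eq_zero_of_right K ?_
  refine Eq.trans (Eq.trans (Finset.sum_congr (by ext; simp) fun _ _ => rfl) h) ?_
  have hmem : (tuples r n).filter (fun e => ∀ i : Fin r, (i : ℕ) = r - 1 → (e i : ℕ) = 0) = tuples0 r n := by
    ext e; simp [tuples0]
  refine Eq.trans (Finset.sum_congr (Eq.trans (by ext; simp) hmem) fun _ _ => rfl) ?_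
  have hne' : ¬ ∀ i, ((a i + b (Fin.rev i) : ℤ) : ℂ) = C := by
    intro h
    apply hne
    have i0 : Fin r := ⟨0, by omega⟩
    refine ⟨(v i0 : ℤ) - v' i0, fun i => ?_⟩
    have h1 : a i + b (Fin.rev i) = a i0 + b (Fin.rev i0) := by exact_mod_cast (h i).trans (h i0).symm
    simp only [a, b, Fin.rev_rev] at h1
    omega
  have key := orth hr hn a b C (by
      simp only [a, b, C, Finset.sum_neg_distrib]
      push_cast
      rw [mul_div_cancel₀ _ hr', show ∑ x, (v' (Fin.rev x) : ℂ) = V' from Equiv.sum_comp Fin.revPerm fun i => (v' i : ℂ)]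
      simp [hV]; ring)
    (fun i j h => by have := hv h; simp only [a]; omega)
    (fun i j h => by have := hv' (Fin.rev_lt_rev.2 h); simp only [b]; omega)
    (fun i j => abs_lt.2 ⟨by have := hvlt i; have := hvlt j; simp only [a]; omega, by have := hvlt i; have := hvlt j; simp only [a]; omega⟩)
    (fun i j => abs_lt.2 ⟨by have := hv'lt (Fin.rev i); have := hv'lt (Fin.rev j); simp only [b]; omega,
      by have := hv'lt (Fin.rev i); have := hv'lt (Fin.rev j); simp only [b]; omega⟩) hne'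
  simp only [E_submatrix] at key
  exact key

end Groth.Agent.VerlindeLib
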