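import Mathlib.Analysis.SpecialFunctions.Complex.Circle
import Mathlib.Analysis.SpecialFunctions.Trigonometric.Bounds
import Mathlib.LinearAlgebra.Matrix.SchurComplement
import Mathlib.LinearAlgebra.Vandermonde
import Mathlib.Data.Fin.Tuple.Sort
import Mathlib.Tactic

/-! Cauchy-Binet over strictly decreasing tuples and orthogonality of alternants of roots of unity. -/

namespace Groth.Agent.VerlindeLib
open Finset Matrix
open scoped BigOperators

/-- the sign of reversing `Fin r` -/
noncomputable def revSign (r : ℕ) : ℂ := ((Equiv.Perm.sign (Fin.revPerm : Equiv.Perm (Fin r)) : ℤ) : ℂ)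

lemma revSign_sq (r : ℕ) : revSign r * revSign r = 1 := by
  rw [revSign, ← Int.cast_mul, ← Units.val_mul, Int.units_mul_self]; simp

/-- strictly decreasing tuples -/
def tuples (r m : ℕ) : Finset (Fin r → Fin m) := by classical exact Finset.univ.filter StrictAnti

lemma mem_tuples {r m : ℕ} {v : Fin r → Fin m} : v ∈ tuples r m ↔ StrictAnti v := by simp [tuples]

lemma sum_symm_tuples {r m : ℕ} (G : (Fin r → Fin m) → ℂ) (hs : ∀ v (σ : Equiv.Perm (Fin r)), G (v ∘ σ) = G v)
    (h0 : ∀ v, ¬ Function.Injective v → G v = 0) :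
    ∑ v, G v = (r.factorial : ℂ) * ∑ v ∈ tuples r m, G v := by
  classical
  have h1 : ∑ v, G v = ∑ v ∈ Finset.univ.filter (fun v : Fin r → Fin m => Function.Injective v), G v := by
    rw [Finset.sum_filter]; exact Finset.sum_congr rfl fun v _ => by split_ifs with h <;> simp [h0 v, *]
  have h2 : ∑ p ∈ tuples r m ×ˢ (Finset.univ : Finset (Equiv.Perm (Fin r))), G p.1 =
      ∑ v ∈ Finset.univ.filter (fun v : Fin r → Fin m => Function.Injective v), G v := by
    refine Finset.sum_bij (fun p _ => p.1 ∘ p.2) ?_ ?_ ?_ ?_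
    · intro p hp
      rw [mem_product, mem_tuples] at hp
      simp [hp.1.injective.comp p.2.injective]
    · intro p hp q hq h
      rw [mem_product, mem_tuples] at hp hq
      have h3 : Set.range p.1 = Set.range q.1 := by
        have := congrArg Set.range h
        simpa [EquivLike.range_comp] using this
      have hm1 : StrictMono (p.1 ∘ Fin.rev) := hp.1.comp Fin.rev_strictAnti
      have hm2 : StrictMono (q.1 ∘ Fin.rev) := hq.1.comp Fin.rev_strictAnti
      have h4 : p.1 = q.1 := by
        have h5 := (hm1.range_inj hm2).1 (by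
          rw [Fin.rev_surjective.range_comp, Fin.rev_surjective.range_comp, h3])
        funext i; simpa using congrFun h5 (Fin.rev i)
      refine Prod.ext h4 (Equiv.ext fun i => hq.1.injective ?_)
      simpa [h4] using congrFun h i
    · intro v hv
      simp only [mem_filter, mem_univ, true_and] at hv
      let σ := Tuple.sort v
      have hsm : StrictMono (v ∘ σ) := (Tuple.monotone_sort v).strictMono_of_injective (hv.comp σ.injective)
      refine ⟨(v ∘ σ ∘ Fin.rev, σ⁻¹.trans Fin.revPerm), ?_, ?_⟩
      · rw [mem_product, mem_tuples]; exact ⟨hsm.comp_strictAnti Fin.rev_strictAnti, mem_univ _⟩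
      · funext i; simp
    · intro p _; rw [hs]
  rw [h1, ← h2, Finset.sum_product, Finset.mul_sum]
  simp [Fintype.card_perm]

lemma det_submatrix_perm {r m : ℕ} (F : Matrix (Fin r) (Fin m) ℂ) (v : Fin r → Fin m) (σ : Equiv.Perm (Fin r)) :
    (F.submatrix id (v ∘ σ)).det = ((Equiv.Perm.sign σ : ℤ) : ℂ) * (F.submatrix id v).det := by
  rw [← det_permute']; rfl

lemma det_submatrix_not_injective {r m : ℕ} (F : Matrix (Fin r) (Fin m) ℂ) (v : Fin r → Fin m)
    (hv : ¬ Function.Injective v) : (F.submatrix id v).det = 0 := by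
  obtain ⟨a, b, h1, h2⟩ : ∃ a b, v a = v b ∧ a ≠ b := by
    simp only [Function.Injective] at hv; push Not at hv; exact hv
  exact det_zero_of_column_eq h2 fun i => by simp [h1]

/-- Cauchy–Binet -/
theorem cauchyBinet {r m : ℕ} (F G : Matrix (Fin r) (Fin m) ℂ) :
    ∑ v ∈ tuples r m, (F.submatrix id v).det * (G.submatrix id v).det = (F * Gᵀ).det := by
  classical
  have hs : ∀ v (σ : Equiv.Perm (Fin r)),
      (F.submatrix id (v ∘ σ)).det * (G.submatrix id (v ∘ σ)).det = (F.submatrix id v).det * (G.submatrix id v).det := by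
    intro v σ
    rw [det_submatrix_perm, det_submatrix_perm]
    have : ((Equiv.Perm.sign σ : ℤ) : ℂ) * ((Equiv.Perm.sign σ : ℤ) : ℂ) = 1 := by
      rw [← Int.cast_mul, ← Units.val_mul, Int.units_mul_self]; simp
    linear_combination ((F.submatrix id v).det * (G.submatrix id v).det) * this
  have h := sum_symm_tuples (fun v => (F.submatrix id v).det * (G.submatrix id v).det) hs
    (fun v hv => by simp [det_submatrix_not_injective F v hv])
  have hr : (r.factorial : ℂ) ≠ 0 := Nat.cast_ne_zero.2 r.factorial_ne_zero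
  apply mul_left_cancel₀ hr
  rw [← h]
  calc ∑ v : Fin r → Fin m, (F.submatrix id v).det * (G.submatrix id v).det
      = ∑ σ : Equiv.Perm (Fin r), ∑ v : Fin r → Fin m,
          ((Equiv.Perm.sign σ : ℤ) : ℂ) * (∏ i, F (σ i) (v i)) * (G.submatrix id v).det := by
        rw [Finset.sum_comm]
        refine Finset.sum_congr rfl fun v _ => ?_
        rw [det_apply', Finset.sum_mul]
        rfl
    _ = ∑ σ : Equiv.Perm (Fin r), ∑ w : Fin r → Fin m, (∏ i, F i (w i)) * (G.submatrix id w).det := by
        refine Finset.sum_congr rfl fun σ _ => ?_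
        refine (Fintype.sum_equiv (Equiv.arrowCongr σ.symm (Equiv.refl (Fin m))) _ _ fun w => ?_).symm
        have e : (Equiv.arrowCongr σ.symm (Equiv.refl (Fin m))) w = w ∘ σ := by ext i; simp [Equiv.arrowCongr]
        rw [e, det_submatrix_perm, show ∏ i, F (σ i) ((w ∘ σ) i) = ∏ i, F i (w i) from Equiv.prod_comp σ fun i => F i (w i)]
        have : ((Equiv.Perm.sign σ : ℤ) : ℂ) * ((Equiv.Perm.sign σ : ℤ) : ℂ) = 1 := by
          rw [← Int.cast_mul, ← Units.val_mul, Int.units_mul_self]; simp
        linear_combination -((∏ i, F i (w i)) * (G.submatrix id w).det) * this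
    _ = (r.factorial : ℂ) * (F * Gᵀ).det := by
        rw [Finset.sum_const, Finset.card_univ, Fintype.card_perm, Fintype.card_fin, nsmul_eq_mul]
        congr 1
        rw [← det_transpose (F * Gᵀ), det_apply' (F * Gᵀ)ᵀ]
        simp only [det_apply' (G.submatrix id _), Finset.mul_sum]
        rw [Finset.sum_comm]
        refine Finset.sum_congr rfl fun τ _ => ?_
        simp only [transpose_apply, mul_apply, Fintype.prod_sum, Finset.mul_sum, submatrix_apply, id_eq,
          Finset.prod_mul_distrib]
        exact Finset.sum_congr rfl fun w _ => by ring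

/-- the tuples containing `0` -/
def tuples0 (r m : ℕ) : Finset (Fin r → Fin m) := by
  classical exact (tuples r m).filter (fun v => ∀ i : Fin r, (i : ℕ) = r - 1 → (v i : ℕ) = 0)

lemma tuples0_eq (r m : ℕ) :
    tuples0 r m = Finset.univ.filter
      (fun v : Fin r → Fin m => StrictAnti v ∧ ∀ i : Fin r, (i : ℕ) = r - 1 → (v i : ℕ) = 0) := by
  classical
  ext v; simp [tuples0, tuples]

/-- zero out the first column -/
def killZero {r m : ℕ} (F : Matrix (Fin r) (Fin m) ℂ) : Matrix (Fin r) (Fin m) ℂ :=
  Matrix.of fun i x => if (x : ℕ) = 0 then 0 else F i x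

theorem cauchyBinet0 {r m : ℕ} (hr : 1 ≤ r) (F G : Matrix (Fin r) (Fin m) ℂ) :
    ∑ v ∈ tuples0 r m, (F.submatrix id v).det * (G.submatrix id v).det =
      (F * Gᵀ).det - (killZero F * (killZero G)ᵀ).det := by
  classical
  rw [← cauchyBinet, ← cauchyBinet, ← Finset.sum_sub_distrib, tuples0, Finset.sum_filter]
  refine Finset.sum_congr rfl fun v hv => ?_
  rw [mem_tuples] at hv
  split_ifs with h
  · have h1 := h ⟨r - 1, by omega⟩ rfl
    have : ((killZero F).submatrix id v).det = 0 :=
      det_eq_zero_of_column_eq_zero ⟨r - 1, by omega⟩ fun i => by simp [killZero, h1]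
    rw [this]; ring
  · push Not at h
    obtain ⟨i, hi, hv0⟩ := h
    have hall : ∀ j, (v j : ℕ) ≠ 0 := fun j => by
      have : j ≤ i := Fin.le_iff_val_le_val.2 (by omega)
      have := Fin.le_iff_val_le_val.1 (hv.antitone this)
      omega
    have e : ∀ H : Matrix (Fin r) (Fin m) ℂ, (killZero H).submatrix id v = H.submatrix id v := fun H => by
      ext a b; simp [killZero, hall b]
    rw [e, e]; ring

/-- the all-ones matrix -/
def J (r : ℕ) : Matrix (Fin r) (Fin r) ℂ := Matrix.of fun _ _ => 1

lemma killZero_mul {r m : ℕ} [NeZero m] (F G : Matrix (Fin r) (Fin m) ℂ) (hF : ∀ i, F i 0 = 1) (hG : ∀ i, G i 0 = 1) :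
    killZero F * (killZero G)ᵀ = F * Gᵀ - J r := by
  ext i l
  simp only [Matrix.sub_apply, Matrix.mul_apply, Matrix.transpose_apply, killZero, J, Matrix.of_apply]
  rw [← Finset.add_sum_erase _ _ (Finset.mem_univ (0 : Fin m)), ← Finset.add_sum_erase (f := fun x => F i x * G l x) _ (Finset.mem_univ (0 : Fin m))]
  have : ∀ x ∈ (Finset.univ : Finset (Fin m)).erase 0, (x : ℕ) ≠ 0 := fun x hx h => (Finset.mem_erase.1 hx).1 (Fin.ext h)
  rw [Finset.sum_congr rfl (fun x hx => by rw [if_neg (this x hx), if_neg (this x hx)])]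
  simp [hF, hG]

lemma det_sub_smul_J {r : ℕ} (M : Matrix (Fin r) (Fin r) ℂ) (t : ℂ) :
    (M - t • J r).det = t * (M - J r).det + (1 - t) * M.det := by
  classical
  let B : ℂ → Matrix (Unit ⊕ Fin r) (Unit ⊕ Fin r) ℂ := fun t =>
    Matrix.fromBlocks 1 (Matrix.of fun _ _ => t) (Matrix.of fun _ _ => 1) M
  have hB : ∀ t, (B t).det = (M - t • J r).det := fun t => by
    rw [det_fromBlocks_one₁₁]
    congr 1
    ext i j
    simp [J, Matrix.mul_apply]
  let i0 : Unit ⊕ Fin r := Sum.inl ()
  have hrow : B t = updateRow (B 0) i0 (t • B 1 i0 + (1 - t) • B 0 i0) := by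
    ext i j
    rcases i with i | i
    · rcases j with j | j <;> simp [B, i0, updateRow_apply]
    · rw [updateRow_ne (by simp [i0])]; rcases j with j | j <;> simp [B]
  have h1 : updateRow (B 0) i0 (B 1 i0) = B 1 := by
    ext i j
    rcases i with i | i
    · simp [i0]
    · rw [updateRow_ne (by simp [i0])]; rcases j with j | j <;> simp [B]
  rw [← hB, hrow, det_updateRow_add, det_updateRow_smul, det_updateRow_smul, h1, updateRow_eq_self, hB, hB,
    one_smul, zero_smul, sub_zero]

section roots

variable (n : ℕ)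

/-- `exp (2 π i a / n)` -/
noncomputable def w (a : ℂ) : ℂ := Complex.exp (2 * Real.pi * Complex.I * a / n)

lemma w_add (a b : ℂ) : w n (a + b) = w n a * w n b := by rw [w, w, w, ← Complex.exp_add]; ring_nf
lemma w_zero : w n 0 = 1 := by simp [w]
lemma w_pow (a : ℂ) (m : ℕ) : w n a ^ m = w n (a * m) := by rw [w, w, ← Complex.exp_nat_mul]; ring_nf
lemma prod_w {ι : Type*} (s : Finset ι) (f : ι → ℂ) : ∏ i ∈ s, w n (f i) = w n (∑ i ∈ s, f i) := by
  simp only [w, ← Complex.exp_sum, Finset.mul_sum, Finset.sum_div]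

variable {n} (hn : n ≠ 0)
include hn

lemma w_eq_one_iff (a : ℂ) : w n a = 1 ↔ ∃ m : ℤ, a = (n : ℂ) * m := by
  have hn' : (n : ℂ) ≠ 0 := Nat.cast_ne_zero.2 hn
  rw [w, Complex.exp_eq_one_iff]
  constructor
  · rintro ⟨m, h⟩
    refine ⟨m, ?_⟩
    rw [div_eq_iff hn'] at h
    apply mul_left_cancel₀ Complex.two_pi_I_ne_zero
    linear_combination h
  · rintro ⟨m, rfl⟩
    exact ⟨m, by field_simp⟩

lemma w_periodic (a : ℂ) (m : ℤ) : w n (a + n * m) = w n a := by
  rw [w_add, (w_eq_one_iff hn _).2 ⟨m, rfl⟩, mul_one]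

lemma w_int_inj {a b : ℤ} (ha : |a - b| < n) (h : w n a = w n b) : a = b := by
  have : w n ((a - b : ℤ) : ℂ) = 1 := by
    have h2 : w n ((a - b : ℤ) : ℂ) * w n b = w n b := by rw [← w_add, ← h]; push_cast; ring_nf
    exact mul_eq_right₀ (Complex.exp_ne_zero _) |>.1 h2
  obtain ⟨m, hm⟩ := (w_eq_one_iff hn _).1 this
  have hm' : a - b = n * m := by exact_mod_cast hm
  rcases eq_or_ne m 0 with rfl | hm0
  · simpa [sub_eq_zero] using hm'
  · exfalso
    rw [hm', abs_mul, Nat.abs_cast] at ha
    have : (1 : ℤ) ≤ |m| := Int.one_le_abs hm0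
    nlinarith

lemma geom_w {a : ℂ} (h : w n a ≠ 1) :
    ∑ x : Fin n, w n (a * (x : ℕ)) = (w n (a * n) - 1) / (w n a - 1) := by
  simp only [← w_pow]
  rw [Fin.sum_univ_eq_sum_range (fun x => w n a ^ x), geom_sum_eq h]

end roots

section core

variable {r n : ℕ}

/-- the matrix `exp (2 π i α_i x / n)` -/
noncomputable def E (n : ℕ) {r : ℕ} (α : Fin r → ℂ) (m : ℕ) : Matrix (Fin r) (Fin m) ℂ :=
  Matrix.of fun i x => w n (α i * (x : ℕ))

lemma E_mul (α β : Fin r → ℂ) (m : ℕ) (i l : Fin r) :
    (E n α m * (E n β m)ᵀ) i l = ∑ x : Fin m, w n ((α i + β l) * (x : ℕ)) := by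
  simp [E, Matrix.mul_apply, ← w_add, add_mul]

/-- twisted orthogonality -/
theorem orth (hr : 1 ≤ r) (hn : n ≠ 0) (a b : Fin r → ℤ) (C : ℂ)
    (hsum : ((∑ i, a i + ∑ i, b i : ℤ) : ℂ) = r * C)
    (ha : StrictAnti a) (hb : StrictAnti b) (ha' : ∀ i j, |a i - a j| < n) (hb' : ∀ i j, |b i - b j| < n)
    (hne : ¬ ∀ i, ((a i + b (Fin.rev i) : ℤ) : ℂ) = C) :
    ∑ e ∈ tuples0 r n, ((E n (fun i => (a i : ℂ) - C) n).submatrix id e).det *
      ((E n (fun i => (b i : ℂ)) n).submatrix id e).det = 0 := by
  classical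
  haveI : NeZero n := ⟨hn⟩
  set α := fun i => (a i : ℂ) - C with hα
  set β := fun i => (b i : ℂ) with hβ
  rw [cauchyBinet0 hr, killZero_mul _ _ (fun i => by simp [E, w_zero]) (fun i => by simp [E, w_zero])]
  set M := E n α n * (E n β n)ᵀ with hM
  have hM' : ∀ i l, M i l = ∑ x : Fin n, w n ((α i + β l) * (x : ℕ)) := fun i l => E_mul α β n i l
  set ζ := w n (-(C * n)) with hζ
  have hperiod : ∀ i l, w n ((α i + β l) * n) = ζ := by
    intro i l
    rw [hζ, ← w_periodic hn (-(C * n)) (a i + b l)]
    congr 1; simp [α, β]; ring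
  by_cases hz : ζ = 1
  · -- periodic case
    obtain ⟨m0, hm0⟩ := (w_eq_one_iff hn _).1 hz
    have hC : C = ((-m0 : ℤ) : ℂ) := by
      have hn' : (n : ℂ) ≠ 0 := Nat.cast_ne_zero.2 hn
      push_cast
      apply mul_left_cancel₀ hn'
      linear_combination -hm0
    set c : ℤ := -m0
    have hαβ : ∀ i l, α i + β l = ((a i + b l - c : ℤ) : ℂ) := fun i l => by simp [α, β, hC]; ring
    have hent : ∀ i l, ¬ ((n : ℤ) ∣ a i + b l - c) → M i l = 0 := by
      intro i l h
      have hne1 : w n (α i + β l) ≠ 1 := by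
        intro h1
        obtain ⟨m, hm⟩ := (w_eq_one_iff hn _).1 h1
        rw [hαβ] at hm
        exact h ⟨m, by exact_mod_cast hm⟩
      rw [hM', geom_w hn hne1, hperiod, hz, sub_self, zero_div]
    have hentn : ∀ i l, ((n : ℤ) ∣ a i + b l - c) → M i l = n := by
      intro i l ⟨m, hm⟩
      have h1 : w n (α i + β l) = 1 := (w_eq_one_iff hn _).2 ⟨m, by rw [hαβ, hm]; push_cast; ring⟩
      rw [hM']
      simp [← w_pow, h1]
    have huniq : ∀ i i' l, (n : ℤ) ∣ a i + b l - c → (n : ℤ) ∣ a i' + b l - c → i = i' := by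
      intro i i' l h1 h2
      apply ha.injective
      have h3 := dvd_sub h1 h2
      have := Int.eq_zero_of_abs_lt_dvd h3 (by simpa using ha' i i')
      omega
    have hsum' : ∑ i, a i + ∑ i, b i = r * c := by
      rw [hC] at hsum
      exact_mod_cast hsum
    by_cases hall : ∀ i, ∃ l, (n : ℤ) ∣ a i + b l - c
    · exfalso
      choose σ hσ using hall
      have hinj : Function.Injective σ := fun i i' h => huniq i i' (σ i) (hσ i) (h ▸ hσ i')
      let σ' : Equiv.Perm (Fin r) := Equiv.ofBijective σ ⟨hinj, Finite.surjective_of_injective hinj⟩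
      have h0 : ∑ i, (a i + b (σ i) - c) = 0 := by
        rw [Finset.sum_sub_distrib, Finset.sum_add_distrib,
          show ∑ i, b (σ i) = ∑ i, b i from Equiv.sum_comp σ' b]
        simp [hsum']
      have hall0 : ∀ i, a i + b (σ i) - c = 0 := by
        by_contra hne'
        push Not at hne'
        obtain ⟨i, -, hi⟩ := Finset.exists_pos_of_sum_zero_of_exists_nonzero _ h0 (by simpa using hne')
        obtain ⟨j, -, hj⟩ : ∃ j ∈ Finset.univ, a j + b (σ j) - c < 0 := by
          by_contra hc; push Not at hc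
          have := Finset.sum_pos' (s := Finset.univ) (f := fun i => a i + b (σ i) - c) hc ⟨i, Finset.mem_univ _, hi⟩
          omega
        have h1 : (n : ℤ) ≤ a i + b (σ i) - c := Int.le_of_dvd hi (hσ i)
        have h2 : (n : ℤ) ≤ -(a j + b (σ j) - c) := Int.le_of_dvd (by omega) ((hσ j).neg_right)
        have h3 := abs_lt.1 (ha' i j); have h4 := abs_lt.1 (hb' (σ i) (σ j))
        omega
      have hanti : StrictAnti σ := by
        intro i j hij
        have := ha hij
        have h1 := hall0 i; have h2 := hall0 j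
        by_contra h
        have := hb.antitone (not_lt.1 h)
        omega
      have hσ' : σ ∘ Fin.rev = id :=
        ((hanti.comp Fin.rev_strictAnti).range_inj strictMono_id).1 (by
          rw [Set.range_id]
          exact Set.range_eq_univ.2 ((Finite.surjective_of_injective hinj).comp Fin.rev_surjective))
      refine hne fun i => ?_
      rw [hC, show Fin.rev i = σ i by simpa using (congrFun hσ' (Fin.rev i)).symm]
      exact_mod_cast (by have := hall0 i; omega : a i + b (σ i) = c)
    · push Not at hall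
      obtain ⟨i0, hi0⟩ := hall
      have hd : M.det = 0 := det_eq_zero_of_row_eq_zero i0 fun l => hent i0 l (hi0 l)
      rw [hd, zero_sub, neg_eq_zero]
      by_cases h2 : ∃ i1, i1 ≠ i0 ∧ ∀ l, ¬ (n : ℤ) ∣ a i1 + b l - c
      · obtain ⟨i1, hne', hi1⟩ := h2
        refine det_zero_of_row_eq hne' (funext fun l => ?_)
        simp [Matrix.sub_apply, J, hent _ _ (hi1 l), hent _ _ (hi0 l)]
      · exfalso
        push Not at h2
        choose σ hσ using fun i : {i // i ≠ i0} => h2 i i.2
        have hinj : Function.Injective σ := fun i i' h => Subtype.ext (huniq i i' (σ i) (hσ i) (h ▸ hσ i'))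
        obtain ⟨l0, hl0⟩ : ∃ l0, ∀ i, σ i ≠ l0 := by
          by_contra hc; push Not at hc
          have h1 := Fintype.card_le_of_surjective σ hc
          have h2 := Fintype.card_subtype_lt (p := fun i : Fin r => i ≠ i0) (x := i0) (by simp)
          omega
        let τ : Fin r → Fin r := fun i => if h : i = i0 then l0 else σ ⟨i, h⟩
        have hτ : Function.Injective τ := by
          intro i i' h
          simp only [τ] at h
          split_ifs at h with h1 h2 h2
          · rw [h1, h2]
          · exact absurd h.symm (hl0 _)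
          · exact absurd h (hl0 _)
          · exact congrArg Subtype.val (hinj h)
        let τ' : Equiv.Perm (Fin r) := Equiv.ofBijective τ ⟨hτ, Finite.surjective_of_injective hτ⟩
        have h0 : ∑ i, (a i + b (τ i) - c) = 0 := by
          rw [Finset.sum_sub_distrib, Finset.sum_add_distrib,
            show ∑ i, b (τ i) = ∑ i, b i from Equiv.sum_comp τ' b]
          simp [hsum']
        rw [← Finset.add_sum_erase _ _ (Finset.mem_univ i0)] at h0
        have hdvd : (n : ℤ) ∣ ∑ i ∈ Finset.univ.erase i0, (a i + b (τ i) - c) := by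
          refine Finset.dvd_sum fun i hi => ?_
          have hi' := (Finset.mem_erase.1 hi).1
          simp only [τ, dif_neg hi']
          exact hσ ⟨i, hi'⟩
        apply hi0 (τ i0)
        have := hdvd.neg_right
        rwa [← eq_neg_of_add_eq_zero_left h0] at this
  · -- non-periodic case
    have hq : ∀ i l, w n (α i + β l) ≠ 1 := by
      intro i l h
      apply hz
      rw [← hperiod i l, ← w_pow, h, one_pow]
    have hDMD : Matrix.of (fun i l => w n (α i) * M i l * w n (β l)) = M - (1 - ζ) • J r := by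
      ext i l
      simp only [Matrix.sub_apply, Matrix.smul_apply, J, Matrix.of_apply, smul_eq_mul, mul_one]
      rw [hM', geom_w hn (hq i l), hperiod, mul_right_comm, ← w_add]
      field_simp [sub_ne_zero.2 (hq i l)]
      ring
    have hdet : (Matrix.of (fun i l => w n (α i) * M i l * w n (β l))).det = M.det := by
      have e : Matrix.of (fun i l => w n (α i) * M i l * w n (β l)) =
          Matrix.of fun i l => w n (β l) * Matrix.of (fun i l => w n (α i) * M i l) i l := by
        ext i l; simp [mul_comm]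
      have h0 : ∑ i, β i + ∑ i, α i = 0 := by
        simp only [α, β, Finset.sum_sub_distrib, Finset.sum_const, Finset.card_univ, Fintype.card_fin, nsmul_eq_mul]
        push_cast at hsum
        linear_combination hsum
      rw [e, det_mul_row, det_mul_column, prod_w, prod_w, ← mul_assoc, ← w_add, h0, w_zero, one_mul]
    have h := det_sub_smul_J M (1 - ζ)
    rw [← hDMD, hdet] at h
    have h2 : (1 - ζ) * (M.det - (M - J r).det) = 0 := by linear_combination h
    rcases mul_eq_zero.1 h2 with h3 | h3
    · exact absurd (sub_eq_zero.1 h3).symm hz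
    · exact h3

end core

end Groth.Agent.VerlindeLib
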